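import Mathlib

/-!
A locally closed condition on a noetherian affine scheme holding on all infinitesimal neighbourhoods of a
closed subset holds on an open neighbourhood of it.
-/

set_option autoImplicit false
set_option linter.style.haveILetI false
set_option backward.isDefEq.respectTransparency false

universe u

open CategoryTheory AlgebraicGeometry
open CategoryTheory.Limits

namespace Groth.Agent.H21SubEq

/-- In a noetherian ring the intersection of the powers of an ideal is killed by an element outside each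
prime containing the ideal. -/
theorem exists_kill_of_le_pow {A : Type u} [CommRing A] [IsNoetherianRing A] (I I' P : Ideal A) [P.IsPrime]
    (hP : I ≤ P) (h : ∀ k : ℕ, I' ≤ I ^ k) : ∃ t ∉ P, ∀ v ∈ I', t * v = 0 := by
  classical
  obtain ⟨T, hT⟩ := IsNoetherian.noetherian I'
  have hx : ∀ x : T, ∃ t ∉ P, t * (x : A) = 0 := by
    intro x
    have hx' : (x : A) ∈ I' := hT ▸ Ideal.subset_span x.2
    obtain ⟨⟨r, hr⟩, hrx⟩ := (Ideal.mem_iInf_smul_pow_eq_bot_iff I (x : A)).mp (by
      simp only [Submodule.mem_iInf, smul_eq_mul, Ideal.mul_top]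
      exact fun k => h k hx')
    refine ⟨1 - r, fun h1 => ‹P.IsPrime›.ne_top ((Ideal.eq_top_iff_one P).mpr ?_), ?_⟩
    · have := P.add_mem h1 (hP hr); rwa [sub_add_cancel] at this
    · rw [sub_mul, one_mul, show r * (x : A) = x from hrx, sub_self]
  choose t ht ht' using hx
  refine ⟨∏ x, t x, fun hp => ?_, fun v hv => ?_⟩
  · obtain ⟨x, -, hx⟩ := ‹P.IsPrime›.prod_mem_iff.mp hp
    exact ht x hx
  · rw [← hT] at hv
    induction hv using Submodule.span_induction with
    | mem w hw =>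
      rw [← Finset.mul_prod_erase Finset.univ t (Finset.mem_univ ⟨w, hw⟩), mul_comm (t _), mul_assoc,
        ht' ⟨w, hw⟩, mul_zero]
    | zero => rw [mul_zero]
    | add a b _ _ ha hb => rw [mul_add, ha, hb, add_zero]
    | smul c a _ ha => rw [smul_eq_mul, mul_left_comm, ha, mul_zero]

theorem exists_nhd_lift_of_infinitesimal {A : Type u} [CommRing A] [IsNoetherianRing A] (I : Ideal A)
    {Z Y : Scheme.{u}} (i : Z ⟶ Y) [IsImmersion i] (f : Spec (CommRingCat.of A) ⟶ Y)
    (h : ∀ k : ℕ, ∃ l : Spec (CommRingCat.of (A ⧸ I ^ k)) ⟶ Z,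
      l ≫ i = Spec.map (CommRingCat.ofHom (Ideal.Quotient.mk (I ^ k))) ≫ f)
    (P : PrimeSpectrum A) (hP : I ≤ P.asIdeal) :
    ∃ W : (Spec (CommRingCat.of A)).Opens, P ∈ W ∧ ∀ {T : Scheme.{u}} (t : T ⟶ Spec (CommRingCat.of A)),
      Set.range t.base ⊆ (W : Set (Spec (CommRingCat.of A))) → ∃ l : T ⟶ Z, l ≫ i = t ≫ f := by
  classical
  let p := pullback.fst f i
  have hlift : ∀ k, ∃ l : Spec (CommRingCat.of (A ⧸ I ^ k)) ⟶ pullback f i,
      l ≫ p = Spec.map (CommRingCat.ofHom (Ideal.Quotient.mk (I ^ k))) := fun k => by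
    obtain ⟨l, hl⟩ := h k
    exact ⟨pullback.lift _ l hl.symm, pullback.lift_fst _ _ _⟩
  obtain ⟨Q, g₁, g₂, hg₁, hg₂, hgg⟩ := IsImmersion.isImmersion_iff_exists.mp (inferInstance : IsImmersion p)
  have hPr : (P : Spec (CommRingCat.of A)) ∈ Set.range g₂.base := by
    obtain ⟨l, hl⟩ := hlift 1
    obtain ⟨z, hz⟩ : P ∈ Set.range (PrimeSpectrum.comap (Ideal.Quotient.mk (I ^ 1))) := by
      rw [range_comap_of_surjective _ _ Ideal.Quotient.mk_surjective, Ideal.mk_ker, pow_one]
      exact hP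
    refine ⟨g₁.base (l.base z), ?_⟩
    rw [← Scheme.Hom.comp_apply, hgg, ← Scheme.Hom.comp_apply, hl]
    exact hz
  obtain ⟨_, ⟨_, ⟨f₀, rfl⟩, rfl⟩, hPf, hsub⟩ :=
    PrimeSpectrum.isBasis_basic_opens.exists_subset_of_mem_open hPr g₂.isOpenEmbedding.isOpen_range
  let A' := Localization.Away f₀
  let r := algebraMap A A'
  let j := Spec.map (CommRingCat.ofHom r)
  haveI : IsOpenImmersion j := IsOpenImmersion.of_isLocalization f₀
  have hjr : Set.range j.base = (PrimeSpectrum.basicOpen f₀ : Set (PrimeSpectrum A)) :=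
    PrimeSpectrum.localization_away_comap_range A' f₀
  let c := pullback.snd p j
  haveI : IsClosedImmersion c := by
    refine .of_isPreimmersion _ ?_
    obtain ⟨l, hl⟩ : ∃ l : Spec (CommRingCat.of A') ⟶ Q, l ≫ g₂ = j :=
      ⟨_, IsOpenImmersion.lift_fac g₂ j (hjr.le.trans hsub)⟩
    have hc : Set.range c.base = l.base ⁻¹' Set.range g₁.base := by
      rw [Scheme.Pullback.range_snd]
      ext z
      change j.base z ∈ Set.range p.base ↔ l.base z ∈ Set.range g₁.base
      rw [← hl, ← hgg]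
      constructor
      · rintro ⟨y, hy⟩
        exact ⟨y, g₂.isOpenEmbedding.injective hy⟩
      · rintro ⟨y, hy⟩
        exact ⟨y, (Scheme.Hom.comp_apply _ _ _).trans ((congrArg g₂.base hy).trans (Scheme.Hom.comp_apply _ _ _).symm)⟩
    rw [hc]
    exact g₁.isClosedEmbedding.isClosed_range.preimage l.continuous
  obtain ⟨I', ε, hε⟩ := IsClosedImmersion.Spec_iff.mp (inferInstance : IsClosedImmersion c)
  have hI' : ∀ k : ℕ, I' ≤ (I.map r) ^ k := by
    intro k v hv
    let q : A' →+* A' ⧸ (I.map r) ^ k := Ideal.Quotient.mk _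
    let q₀ : A ⧸ I ^ k →+* A' ⧸ (I.map r) ^ k := Ideal.Quotient.lift (I ^ k) (q.comp r) fun a ha => by
      rw [RingHom.comp_apply, Ideal.Quotient.eq_zero_iff_mem, ← Ideal.map_pow]
      exact Ideal.mem_map_of_mem r ha
    obtain ⟨l, hl⟩ := hlift k
    let k' : Spec (CommRingCat.of (A' ⧸ (I.map r) ^ k)) ⟶ pullback p j :=
      pullback.lift (Spec.map (CommRingCat.ofHom q₀) ≫ l) (Spec.map (CommRingCat.ofHom q)) (by
        rw [Category.assoc, hl, ← Spec.map_comp, ← Spec.map_comp]
        exact congrArg Spec.map (CommRingCat.hom_ext (Ideal.Quotient.lift_comp_mk _ _ _)))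
    have hk : k' ≫ c = Spec.map (CommRingCat.ofHom q) := pullback.lift_snd _ _ _
    obtain ⟨ψ, hψ⟩ := Spec.map_surjective (k' ≫ ε.hom)
    have h2 : q = ψ.hom.comp (Ideal.Quotient.mk I') := congrArg CommRingCat.Hom.hom (Spec.map_injective (by
      rw [CommRingCat.ofHom_comp, Spec.map_comp, CommRingCat.ofHom_hom, hψ, Category.assoc, ← hε, hk]) :
        CommRingCat.ofHom q = CommRingCat.ofHom (ψ.hom.comp (Ideal.Quotient.mk I')))
    rw [← Ideal.Quotient.eq_zero_iff_mem]
    change q v = 0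
    rw [h2, RingHom.comp_apply, Ideal.Quotient.eq_zero_iff_mem.mpr hv, map_zero]
  obtain ⟨P', hP'⟩ : P ∈ Set.range j.base := by rw [hjr]; exact hPf
  haveI : (P' : PrimeSpectrum A').asIdeal.IsPrime := P'.isPrime
  have hIP' : I.map r ≤ (P' : PrimeSpectrum A').asIdeal :=
    Ideal.map_le_iff_le_comap.mpr (hP.trans (le_of_eq (congrArg PrimeSpectrum.asIdeal hP').symm))
  haveI : IsNoetherianRing A' := IsLocalization.isNoetherianRing (Submonoid.powers f₀) A' inferInstance
  obtain ⟨s, hs, hs'⟩ := exists_kill_of_le_pow (I.map r) I' (P' : PrimeSpectrum A').asIdeal hIP' hI'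
  let A'' := Localization.Away s
  let r' := algebraMap A' A''
  let j' := Spec.map (CommRingCat.ofHom r')
  haveI : IsOpenImmersion j' := IsOpenImmersion.of_isLocalization s
  let σ : A' ⧸ I' →+* A'' := Ideal.Quotient.lift I' r' fun v hv =>
    (IsLocalization.Away.algebraMap_isUnit s : IsUnit (r' s)).mul_right_eq_zero.mp (by rw [← map_mul, hs' v hv, map_zero])
  let l₁ : Spec (CommRingCat.of A'') ⟶ pullback p j := Spec.map (CommRingCat.ofHom σ) ≫ ε.inv
  have hl₁ : l₁ ≫ c = j' := by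
    rw [Category.assoc, hε, Iso.inv_hom_id_assoc, ← Spec.map_comp]
    exact congrArg Spec.map (CommRingCat.hom_ext (Ideal.Quotient.lift_comp_mk _ _ _))
  refine ⟨(j' ≫ j).opensRange, ?_, fun {T} t ht => ?_⟩
  · obtain ⟨P'', hP''⟩ : P' ∈ Set.range j'.base :=
      (PrimeSpectrum.localization_away_comap_range A'' s).ge hs
    exact ⟨P'', (Scheme.Hom.comp_apply _ _ _).trans ((congrArg j.base hP'').trans hP')⟩
  · obtain ⟨e, he⟩ : ∃ e : T ⟶ Spec (CommRingCat.of A''), e ≫ j' ≫ j = t :=
      ⟨_, IsOpenImmersion.lift_fac (j' ≫ j) t ht⟩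
    refine ⟨e ≫ l₁ ≫ pullback.fst p j ≫ pullback.snd f i, ?_⟩
    simp only [Category.assoc]
    rw [← pullback.condition, ← Category.assoc (pullback.fst p j), pullback.condition (f := p), ← he, ← hl₁]
    simp only [l₁, c, Category.assoc]

end Groth.Agent.H21SubEq
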