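import Groth.Agent.H21SubEq.Transfer
import Groth.Agent.H21SubEq.Krull
import Groth.Agent.H21Diag.Cover
import Groth.Agent.H21Diag.TransporterSub
import Groth.Agent.H21Diag.WeilLocus

/-!
Two subgroups of multiplicative type which are equal and central at a point are equal over the local ring.
-/

set_option autoImplicit false
set_option linter.style.haveILetI false
set_option backward.isDefEq.respectTransparency false
set_option synthInstance.maxHeartbeats 200000
set_option maxHeartbeats 800000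

universe u

open CategoryTheory MonoidalCategory CartesianMonoidalCategory MonObj GrpObj AlgebraicGeometry
open CategoryTheory.Limits
open Groth.Agent.H21Diag

namespace Groth.Agent.H21SubEq

/-- every prime of a finite group algebra over a local ring specialises to one over the closed point -/
theorem exists_specializes_over_closed {R : Type u} [CommRing R] [IsLocalRing R] (N : Type) [CommGroup N] [Finite N]
    (q : PrimeSpectrum (MonoidAlgebra R N)) :
    ∃ q' : PrimeSpectrum (MonoidAlgebra R N), q ⤳ q' ∧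
      q'.comap (MonoidAlgebra.singleOneRingHom : R →+* MonoidAlgebra R N) = IsLocalRing.closedPoint R := by
  have hc := H21Fix.isClosedMap_comap_single R N (closure {q}) isClosed_closure
  obtain ⟨q', hq', he⟩ := hc.stableUnderSpecialization
    (IsLocalRing.specializes_closedPoint (q.comap (MonoidAlgebra.singleOneRingHom : R →+* MonoidAlgebra R N)))
    ⟨q, subset_closure rfl, rfl⟩
  exact ⟨q', specializes_iff_mem_closure.mpr hq', he⟩

variable {S : Scheme.{u}} {G H : Over S}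

/-- a ring map killing the maximal ideal of a stalk gives a point of the residue field -/
theorem exists_pt_residue (x : S) {D : Type u} [CommRing D] (g : S.presheaf.stalk x →+* D)
    (hg : (IsLocalRing.maximalIdeal (S.presheaf.stalk x)).map g = ⊥) :
    ∃ p : Spec (CommRingCat.of D) ⟶ Spec (S.residueField x),
      p ≫ S.fromSpecResidueField x = tg g ≫ S.fromSpecStalk x := by
  have hker : RingHom.ker (S.residue x).hom ≤ RingHom.ker g := fun v hv => by
    have h1 : v ∈ IsLocalRing.maximalIdeal (S.presheaf.stalk x) :=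
      (IsLocalRing.residue_eq_zero_iff v).mp hv
    exact Ideal.mem_bot.mp (hg ▸ Ideal.mem_map_of_mem g h1)
  refine ⟨Spec.map (CommRingCat.ofHom
    (RingHom.liftOfSurjective (S.residue x).hom (S.residue_surjective x) ⟨g, hker⟩)), ?_⟩
  rw [Scheme.fromSpecResidueField, ← Category.assoc, ← Spec.map_comp]
  exact congrArg (fun m => Spec.map m ≫ S.fromSpecStalk x)
    (CommRingCat.hom_ext (RingHom.liftOfRightInverse_comp _ _ _ ⟨g, hker⟩))

/-- Containment on the infinitesimal neighbourhoods of the closed point of a noetherian local ring gives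
containment on every finite family of points over it. -/
theorem exists_lift_of_infinitesimal {O : Type u} [CommRing O] [IsLocalRing O] [IsNoetherianRing O] [IsAffineHom H.hom]
    [LocallyOfFiniteType H.hom] {H' : Over S} (i : H ⟶ G) (i' : H' ⟶ G) [IsImmersion i'.left]
    (σ : Bs O ⟶ S)
    (h : ∀ k : ℕ, LEOn i i' (tg (Ideal.Quotient.mk (IsLocalRing.maximalIdeal O ^ k)) ≫ σ))
    {R : Type u} [CommRing R] [IsLocalRing R] (ψ : O →+* R) [IsLocalHom ψ] {N : Type} [CommGroup N] [Finite N]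
    {t : Spec (CommRingCat.of (MonoidAlgebra R N)) ⟶ S}
    (ht : tg ((MonoidAlgebra.singleOneRingHom : R →+* MonoidAlgebra R N).comp ψ) ≫ σ = t)
    (x : Over.mk t ⟶ H) : ∃ x' : Over.mk t ⟶ H', x' ≫ i' = x ≫ i := by
  classical
  subst ht
  let P := pullback H.hom σ
  haveI : IsAffine P := isAffine_of_isAffineHom (pullback.snd H.hom σ)
  haveI : IsLocallyNoetherian P := LocallyOfFiniteType.isLocallyNoetherian (pullback.snd H.hom σ)
  haveI : IsNoetherianRing Γ(P, ⊤) := IsLocallyNoetherian.component_noetherian ⟨⊤, isAffineOpen_top P⟩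
  obtain ⟨a, ha⟩ := Spec.map_surjective (P.isoSpec.inv ≫ pullback.snd H.hom σ)
  let I : Ideal Γ(P, ⊤) := (IsLocalRing.maximalIdeal O).map a.hom
  let f : Spec Γ(P, ⊤) ⟶ G.left := P.isoSpec.inv ≫ pullback.fst H.hom σ ≫ i.left
  have hinf : ∀ k : ℕ, ∃ l : Spec (CommRingCat.of (Γ(P, ⊤) ⧸ I ^ k)) ⟶ H'.left,
      l ≫ i'.left = Spec.map (CommRingCat.ofHom (Ideal.Quotient.mk (I ^ k))) ≫ f := by
    intro k
    let ak : O ⧸ IsLocalRing.maximalIdeal O ^ k →+* Γ(P, ⊤) ⧸ I ^ k :=
      Ideal.Quotient.lift _ ((Ideal.Quotient.mk (I ^ k)).comp a.hom) fun v hv => by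
        rw [RingHom.comp_apply, Ideal.Quotient.eq_zero_iff_mem, ← Ideal.map_pow]
        exact Ideal.mem_map_of_mem _ hv
    let π := Spec.map (CommRingCat.ofHom (Ideal.Quotient.mk (I ^ k)))
    let b : Over.mk (tg ak ≫ tg (Ideal.Quotient.mk (IsLocalRing.maximalIdeal O ^ k)) ≫ σ) ⟶ H :=
      Over.homMk (π ≫ P.isoSpec.inv ≫ pullback.fst H.hom σ) (by
        change (π ≫ P.isoSpec.inv ≫ pullback.fst H.hom σ) ≫ H.hom = _
        rw [Category.assoc, Category.assoc, pullback.condition, ← Category.assoc (P.isoSpec.inv), ← ha]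
        refine ((congrArg (π ≫ ·) (congrArg (· ≫ σ) (congrArg Spec.map (CommRingCat.ofHom_hom a).symm))).trans ?_)
        rw [specMap_comp_assoc]
        exact ((specMap_comp_assoc _ _ σ).trans (congrArg (fun m => tg m ≫ σ) (Ideal.Quotient.lift_comp_mk _ _ _))).symm)
    obtain ⟨b', hb'⟩ := h k _ (tg ak) b
    exact ⟨b'.left, (congrArg (fun m => m.left) hb').trans (by simp [b, f, π])⟩
  let R' := MonoidAlgebra R N
  let s : R →+* R' := MonoidAlgebra.singleOneRingHom
  let w₀ : Spec (CommRingCat.of R') ⟶ P := pullback.lift x.left (tg (s.comp ψ)) (Over.w x)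
  let w := w₀ ≫ P.isoSpec.hom
  have hwa : w ≫ Spec.map a = tg (s.comp ψ) := by
    rw [ha, Category.assoc, Iso.hom_inv_id_assoc]
    exact pullback.lift_snd _ _ _
  have hwf : w ≫ f = x.left ≫ i.left := by
    simp only [w, f, Category.assoc, Iso.hom_inv_id_assoc]
    rw [← Category.assoc, pullback.lift_fst]
  have hpt : ∀ q : PrimeSpectrum R', ∃ V : (Spec (CommRingCat.of R')).Opens, q ∈ V ∧
      ∃ l : (V : Scheme.{u}) ⟶ H'.left, l ≫ i'.left = V.ι ≫ x.left ≫ i.left := by
    intro q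
    obtain ⟨q', hqq', hq'⟩ := exists_specializes_over_closed N q
    have hI : I ≤ (w.base q' : PrimeSpectrum Γ(P, ⊤)).asIdeal := by
      refine Ideal.map_le_iff_le_comap.mpr (le_of_eq ?_)
      have h1 : (Spec.map a).base (w.base q') = IsLocalRing.closedPoint O := by
        rw [← Scheme.Hom.comp_apply, hwa]
        refine PrimeSpectrum.ext ?_
        change q'.asIdeal.comap (s.comp ψ) = IsLocalRing.maximalIdeal O
        rw [← Ideal.comap_comap, show q'.asIdeal.comap s = IsLocalRing.maximalIdeal R from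
          congrArg PrimeSpectrum.asIdeal hq', IsLocalRing.maximalIdeal_comap]
      exact (congrArg PrimeSpectrum.asIdeal h1).symm
    obtain ⟨W, hW, hWl⟩ := exists_nhd_lift_of_infinitesimal (A := Γ(P, ⊤)) I i'.left f hinf _ hI
    refine ⟨w ⁻¹ᵁ W, (hqq'.map w.continuous).mem_open W.2 hW, ?_⟩
    obtain ⟨l, hl⟩ := hWl ((w ⁻¹ᵁ W).ι ≫ w) (by
      rintro _ ⟨v, rfl⟩
      rw [Scheme.Hom.comp_apply]
      exact v.2)
    exact ⟨l, by rw [hl, Category.assoc, hwf]⟩
  choose V hqV l hl using hpt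
  obtain ⟨b, hb⟩ := exists_lift_of_cover i'.left (x.left ≫ i.left)
    ((Spec (CommRingCat.of R')).openCoverOfIsOpenCover V
      (eq_top_iff.mpr fun q _ => TopologicalSpace.Opens.mem_iSup.mpr ⟨q, hqV q⟩))
    fun q => ⟨l q, hl q⟩
  refine ⟨Over.homMk b ?_, Over.OverMorphism.ext hb⟩
  rw [← Over.w i', ← Category.assoc, hb, Category.assoc, Over.w i]
  exact Over.w x

variable {H' : Over S} [GrpObj G] [GrpObj H] [GrpObj H'] (i : H ⟶ G) [IsMonHom i] [IsImmersion i.left]
  (i' : H' ⟶ G) [IsMonHom i'] [IsImmersion i'.left]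

section chart
variable {O R : Type u} [CommRing O] [CommRing R] [IsLocalRing O] [IsLocalRing R] (ψ : O →+* R) [IsLocalHom ψ]
  (σ : Bs O ⟶ S) {M M' : Type} [AddCommGroup M] [AddCommGroup M']
  (c : Grp.mk (Red.bc (tg ψ ≫ σ) H) ≅ Grp.mk (Red.DS (Bs R) M))
  (c' : Grp.mk (Red.bc (tg ψ ≫ σ) H') ≅ Grp.mk (Red.DS (Bs R) M'))

omit [IsLocalRing R] [IsLocalHom ψ] [IsMonHom i] [IsMonHom i'] [IsImmersion i.left] in
/-- the infinitesimal containment on the noetherian base -/
theorem leOn_pow (hflat : Flat (tg ψ)) (hsur : Surjective (tg ψ))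
    (hk : ∀ k : ℕ, LEMod (incl i c) (incl i' c') ((IsLocalRing.maximalIdeal O).map ψ ^ k)) (k : ℕ) :
    LEOn i i' (tg (Ideal.Quotient.mk (IsLocalRing.maximalIdeal O ^ k)) ≫ σ) := by
  let qk := tg (Ideal.Quotient.mk (IsLocalRing.maximalIdeal O ^ k))
  refine leOn_of_fpqc (pullback.snd (tg ψ) qk) (qk ≫ σ) (leOn_of_points _ fun B _ p => ?_)
  obtain ⟨g', hg'⟩ := Spec.map_surjective (p ≫ pullback.fst (tg ψ) qk)
  obtain ⟨b, hb⟩ := Spec.map_surjective (p ≫ pullback.snd (tg ψ) qk)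
  have hg'' : tg g'.hom = p ≫ pullback.fst (tg ψ) qk := hg'
  have hb' : tg b.hom = p ≫ pullback.snd (tg ψ) qk := hb
  have he : p ≫ pullback.snd (tg ψ) qk ≫ qk ≫ σ = tg g'.hom ≫ tg ψ ≫ σ := by
    rw [← pullback.condition_assoc, ← Category.assoc, ← hg'']
  have hkill : ((IsLocalRing.maximalIdeal O).map ψ ^ k).map g'.hom = ⊥ := by
    have h1 : g'.hom.comp ψ = b.hom.comp (Ideal.Quotient.mk _) :=
      congrArg CommRingCat.Hom.hom (Spec.map_injective (by
        rw [specMap_comp, specMap_comp]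
        change tg g'.hom ≫ tg ψ = tg b.hom ≫ qk
        rw [hg'', hb', Category.assoc, Category.assoc, pullback.condition]) :
          CommRingCat.ofHom (g'.hom.comp ψ) = CommRingCat.ofHom (b.hom.comp (Ideal.Quotient.mk _)))
    rw [← Ideal.map_pow, Ideal.map_map, h1, ← Ideal.map_map, Ideal.map_quotient_self, Ideal.map_bot]
  rw [he]
  exact lePt_of_char i i' c c' g'.hom (hk k B g'.hom hkill)

omit [GrpObj G] [IsMonHom i] [IsMonHom i'] [IsImmersion i.left] in
/-- finite subgroups in the noetherian case: the universal point -/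
theorem exists_char_of_finite_univ [IsNoetherianRing O] [IsAffineHom H.hom] [LocallyOfFiniteType H.hom]
    (hinf : ∀ k : ℕ, LEOn i i' (tg (Ideal.Quotient.mk (IsLocalRing.maximalIdeal O ^ k)) ≫ σ))
    {N : Type} [CommGroup N] [Finite N] (χ : Multiplicative M →* MonoidAlgebra R N) :
    ∃ θ : Multiplicative M' →* MonoidAlgebra R N,
      pt (MonoidAlgebra.singleOneRingHom : R →+* MonoidAlgebra R N) θ ≫ incl i' c' =
        pt (MonoidAlgebra.singleOneRingHom : R →+* MonoidAlgebra R N) χ ≫ incl i c := by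
  obtain ⟨x', hx'⟩ := exists_lift_of_infinitesimal i i' σ hinf ψ
    (specMap_comp_assoc _ _ _).symm (cpt c (MonoidAlgebra.singleOneRingHom : R →+* MonoidAlgebra R N) χ)
  obtain ⟨θ, hθ⟩ := cpt_surjective c' _ x'
  refine ⟨θ, (bcEquiv (tg ψ ≫ σ) G (Over.mk (tg _))).symm.injective ?_⟩
  rw [pt_incl, pt_incl, hθ, hx']

include c c' in
theorem leOn_of_chart [Module.Finite ℤ M] (hflat : Flat (tg ψ)) (hsur : Surjective (tg ψ))
    (hG : (IsNoetherianRing O ∧ IsAffineHom H.hom ∧ LocallyOfFiniteType H.hom) ∨ LocallyOfFiniteType G.hom)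
    {T : Scheme.{u}} (v : T ⟶ S) (hc : H21Fix.CentralAt i v) (hle : LEOn i i' v) (hle' : LEOn i' i v)
    (hfac : ∀ (D : Type u) [CommRing D] (g : R →+* D), ((IsLocalRing.maximalIdeal O).map ψ).map g = ⊥ →
      ∃ p : Spec (CommRingCat.of D) ⟶ T, p ≫ v = tg g ≫ tg ψ ≫ σ) :
    LEOn i i' σ ∧ LEOn i' i σ := by
  haveI : Mono i := Over.mono_of_mono_left _
  haveI : Mono i' := Over.mono_of_mono_left _
  haveI := isMonHom_incl i c
  haveI := isMonHom_incl i' c'
  haveI := mono_incl i c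
  haveI := mono_incl i' c'
  let J : Ideal R := (IsLocalRing.maximalIdeal O).map ψ
  have hcase : LocallyOfFiniteType (Red.bc (tg ψ ≫ σ) G).hom ∨
      ((∀ k : ℕ, LEMod (incl i c) (incl i' c') (J ^ k)) →
      ∀ P : Submodule ℤ M, Finite (M ⧸ P) → ∀ (D : Type u) [CommRing D] (g : R →+* D)
      (χ : Multiplicative (M ⧸ P) →* D), ∃ χ' : Multiplicative M' →* D, pt g χ' ≫ incl i' c' =
        pt g (χ.comp (AddMonoidHom.toMultiplicative P.mkQ.toAddMonoidHom)) ≫ incl i c) := by
    rcases hG with ⟨hO, ha, hl⟩ | hG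
    · refine Or.inr fun hk P _ D _ g χ => exists_char_of_univ (incl i c) (incl i' c') _ ?_ g χ
      exact exists_char_of_finite_univ i i' ψ σ c c' (leOn_pow i i' ψ σ c c' hflat hsur hk) _
    · exact Or.inl (inferInstanceAs (LocallyOfFiniteType (pullback.snd G.hom (tg ψ ≫ σ))))
  obtain ⟨τ, hτ⟩ := exists_char_equiv (incl i c) (incl i' c') (J := J) (IsLocalRing.map_maximalIdeal_le ψ)
    (centMod_of_centralAt i c J hc hfac)
    (fun D _ g hg => by obtain ⟨p, hp⟩ := hfac D g hg; exact exists_char_of_leOn i i' c c' hle g p hp)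
    (fun D _ g hg => by obtain ⟨p, hp⟩ := hfac D g hg; exact exists_char_of_leOn i' i c' c hle' g p hp) hcase
  refine ⟨leOn_of_fpqc (tg ψ) σ (leOn_of_points _ fun D _ p => ?_),
    leOn_of_fpqc (tg ψ) σ (leOn_of_points _ fun D _ p => ?_)⟩
  all_goals
    obtain ⟨g, rfl⟩ := Spec.map_surjective p
    rw [← CommRingCat.ofHom_hom g]
  · exact lePt_of_char i i' c c' g.hom fun χ => ⟨_, hτ D g.hom χ⟩
  · refine lePt_of_char i' i c' c g.hom fun χ => ⟨χ.comp (AddMonoidHom.toMultiplicative τ.symm.toAddMonoidHom), ?_⟩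
    refine (hτ D g.hom _).symm.trans (congrArg (fun t => pt g.hom t ≫ incl i' c') (MonoidHom.ext fun m => ?_))
    exact congrArg (fun t => χ (Multiplicative.ofAdd t)) (τ.symm_apply_apply m.toAdd)

end chart

theorem leOn_fromSpecStalk_aux (hG : IsLocallyNoetherian S ∨ LocallyOfFiniteType G.hom)
    (hH : SGA3x.IsMultTypeFT H) {U : Scheme.{u}} (u₀ : U ⟶ S) [Flat u₀] (x₀ : U) {M M' : Type} [AddCommGroup M]
    [AddCommGroup M'] [AddGroup.FG M] (e : Grp.mk (Red.bc u₀ H) ≅ Grp.mk (Red.DS U M))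
    (e' : Grp.mk (Red.bc u₀ H') ≅ Grp.mk (Red.DS U M'))
    (hc : H21Fix.CentralAt i (S.fromSpecResidueField (u₀.base x₀)))
    (hle : LEOn i i' (S.fromSpecResidueField (u₀.base x₀)))
    (hle' : LEOn i' i (S.fromSpecResidueField (u₀.base x₀))) :
    LEOn i i' (S.fromSpecStalk (u₀.base x₀)) ∧ LEOn i' i (S.fromSpecStalk (u₀.base x₀)) := by
  haveI : Module.Finite ℤ M := Module.Finite.iff_addGroup_fg.mpr inferInstance
  let ψ : S.presheaf.stalk (u₀.base x₀) →+* U.presheaf.stalk x₀ := (u₀.stalkMap x₀).hom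
  haveI : IsLocalHom ψ := inferInstanceAs (IsLocalHom (u₀.stalkMap x₀).hom)
  let σ : Bs (S.presheaf.stalk (u₀.base x₀)) ⟶ S := S.fromSpecStalk (u₀.base x₀)
  have hz : U.fromSpecStalk x₀ ≫ u₀ = tg ψ ≫ σ := (Scheme.SpecMap_stalkMap_fromSpecStalk u₀).symm
  have hflat : Flat (tg ψ) := Flat.SpecMap_iff.mpr (Flat.stalkMap u₀ x₀)
  have hsur : Surjective (tg ψ) := by
    letI := ψ.toAlgebra
    haveI : Module.Flat (S.presheaf.stalk (u₀.base x₀)) (U.presheaf.stalk x₀) := Flat.stalkMap u₀ x₀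
    haveI : IsLocalHom (algebraMap (S.presheaf.stalk (u₀.base x₀)) (U.presheaf.stalk x₀)) :=
      (inferInstance : IsLocalHom ψ)
    haveI : Module.FaithfullyFlat (S.presheaf.stalk (u₀.base x₀)) (U.presheaf.stalk x₀) :=
      Module.FaithfullyFlat.of_flat_of_isLocalHom
    exact ⟨PrimeSpectrum.comap_surjective_of_faithfullyFlat
      (A := S.presheaf.stalk (u₀.base x₀)) (B := U.presheaf.stalk x₀)⟩
  let c : Grp.mk (Red.bc (tg ψ ≫ σ) H) ≅ Grp.mk (Red.DS (Bs (U.presheaf.stalk x₀)) M) :=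
    restrictChart (ε := U.fromSpecStalk x₀) e hz
  let c' : Grp.mk (Red.bc (tg ψ ≫ σ) H') ≅ Grp.mk (Red.DS (Bs (U.presheaf.stalk x₀)) M') :=
    restrictChart (ε := U.fromSpecStalk x₀) e' hz
  refine leOn_of_chart (O := S.presheaf.stalk (u₀.base x₀)) (R := U.presheaf.stalk x₀) (M := M) (M' := M')
    i i' ψ σ c c' hflat hsur ?_ _ hc hle hle' fun D _ g hg => ?_
  · refine hG.imp (fun hS => ⟨?_, isAffineHom_of_multTypeFT hH, ?_⟩) id
    · haveI := hS
      exact inferInstanceAs (IsNoetherianRing (S.presheaf.stalk (u₀.base x₀)))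
    · have := lfp_of_multTypeFT hH
      infer_instance
  · obtain ⟨p, hp⟩ := exists_pt_residue (u₀.base x₀) (g.comp ψ) (by rw [← Ideal.map_map]; exact hg)
    exact ⟨p, hp.trans (specMap_comp_assoc ψ g σ).symm⟩

theorem leOn_fromSpecStalk (hG : IsLocallyNoetherian S ∨ LocallyOfFiniteType G.hom)
    (hH : SGA3x.IsMultTypeFT H) (hH' : SGA3x.IsMultTypeFT H') (s : S)
    (hc : H21Fix.CentralAt i (S.fromSpecResidueField s)) (hle : LEOn i i' (S.fromSpecResidueField s))
    (hle' : LEOn i' i (S.fromSpecResidueField s)) :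
    LEOn i i' (S.fromSpecStalk s) ∧ LEOn i' i (S.fromSpecStalk s) := by
  obtain ⟨T, g, hg, hgs, -, hloc⟩ := exists_common_cover hH hH'
  obtain ⟨t, rfl⟩ := hgs.surj s
  obtain ⟨U, htU, ⟨M, _, hfg, ⟨e⟩⟩, M', _, -, ⟨e'⟩⟩ := hloc t
  exact leOn_fromSpecStalk_aux i i' hG hH (U.ι ≫ g) ⟨t, htU⟩ e e' hc hle hle'

end Groth.Agent.H21SubEq
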