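import Groth.Agent.H17.Spreading
import Groth.Agent.H13Desc.Immersion
import Groth.Agent.H12AlgSp.LocPCancel
import Groth.Agent.H21SubEq.Descend

/-!
Containment of subgroups over a local ring spreads to a neighbourhood.
-/

set_option autoImplicit false
set_option linter.style.haveILetI false
set_option backward.isDefEq.respectTransparency false
set_option synthInstance.maxHeartbeats 200000
set_option maxHeartbeats 800000

universe u

open CategoryTheory MonoidalCategory CartesianMonoidalCategory MonObj GrpObj AlgebraicGeometry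
open CategoryTheory.Limits
open Groth.Agent.H21Diag

namespace Groth.Agent.H21SubEq

variable {S : Scheme.{u}}

/-- an open containing every point over the generizations of `s` contains the preimage of a neighbourhood of `s` -/
theorem exists_nhd_preimage_le {W : Scheme.{u}} (f : W ⟶ S) [QuasiCompact f] (O : W.Opens) (s : S)
    (h : ∀ w : W, f.base w ⤳ s → w ∈ O) : ∃ V : S.Opens, s ∈ V ∧ f ⁻¹ᵁ V ≤ O := by
  let Z : TopologicalSpace.Closeds W := ⟨(O : Set W)ᶜ, O.2.isClosed_compl⟩
  let I := Scheme.IdealSheafData.vanishingIdeal Z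
  let g := I.subschemeι ≫ f
  have hs : s ∉ closure (Set.range g.base) := fun hs => by
    obtain ⟨x, hx⟩ := H13Desc.exists_specializes_of_mem_closure_range g s hs
    have h1 : I.subschemeι.base x ∈ (Z : Set W) := by
      rw [← Scheme.IdealSheafData.coe_support_vanishingIdeal Z, ← Scheme.IdealSheafData.range_subschemeι]
      exact ⟨x, rfl⟩
    exact h1 (h _ hx)
  refine ⟨⟨(closure (Set.range g.base))ᶜ, isClosed_closure.isOpen_compl⟩, hs, fun w hw => ?_⟩
  by_contra hwO
  obtain ⟨x, hx⟩ : w ∈ Set.range I.subschemeι.base := by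
    rw [Scheme.IdealSheafData.range_subschemeι, Scheme.IdealSheafData.coe_support_vanishingIdeal]
    exact hwO
  exact hw (subset_closure ⟨x, (Scheme.Hom.comp_apply _ _ _).trans (congrArg f.base hx)⟩)

/-- a lift on a local scheme spreads to a neighbourhood -/
theorem exists_nhd_lift_of_stalk {X P : Scheme.{u}} (p : P ⟶ X) [LocallyOfFinitePresentation p] (w : X)
    (l : Spec (X.presheaf.stalk w) ⟶ P) (hl : l ≫ p = X.fromSpecStalk w) :
    ∃ U : X.Opens, w ∈ U ∧ ∃ f : (U : Scheme.{u}) ⟶ P, f ≫ p = U.ι := by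
  let y := l (IsLocalRing.closedPoint _)
  let φ := Scheme.stalkClosedPointTo l
  have e : (𝟙 X : X ⟶ X) w = p y := by
    have h1 := congr($hl (IsLocalRing.closedPoint (X.presheaf.stalk w)))
    rw [Scheme.Hom.comp_apply, Scheme.fromSpecStalk_closedPoint] at h1
    exact h1.symm
  obtain ⟨U, hwU, f, -, hf⟩ := H17.spread_out (𝟙 X) p e φ (by
    apply Spec.map_injective
    rw [← cancel_mono (X.fromSpecStalk _), Spec.map_comp, Category.assoc,
      Scheme.SpecMap_stalkMap_fromSpecStalk, Scheme.Spec_stalkClosedPointTo_fromSpecStalk_assoc, hl,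
      Spec.map_comp, Category.assoc, Scheme.SpecMap_stalkSpecializes_fromSpecStalk,
      Scheme.SpecMap_stalkMap_fromSpecStalk, Category.comp_id])
  exact ⟨U, hwU, f, hf.trans (Category.comp_id _)⟩

variable {G H H' : Over S}

/-- containment over a local ring spreads to a neighbourhood -/
theorem exists_nhd_leOn [QuasiCompact H.hom] (i : H ⟶ G) (i' : H' ⟶ G) [IsImmersion i'.left]
    [LocallyOfFinitePresentation (pullback.fst i.left i'.left)] {s : S} (h : LEOn i i' (S.fromSpecStalk s)) :
    ∃ V : S.Opens, s ∈ V ∧ LEOn i i' V.ι := by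
  let p := pullback.fst i.left i'.left
  have hpt : ∀ w : H.left, H.hom.base w ⤳ s → ∃ U : H.left.Opens, w ∈ U ∧ ∃ f : (U : Scheme.{u}) ⟶ H'.left,
      f ≫ i'.left = U.ι ≫ i.left := by
    intro w hw
    let d := Spec.map (S.presheaf.stalkSpecializes hw ≫ H.hom.stalkMap w)
    let a : Over.mk (d ≫ S.fromSpecStalk s) ⟶ H := Over.homMk (H.left.fromSpecStalk w) (by
      change _ = d ≫ S.fromSpecStalk s
      simp only [d, Spec.map_comp, Category.assoc, Scheme.SpecMap_stalkSpecializes_fromSpecStalk,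
        Scheme.SpecMap_stalkMap_fromSpecStalk])
    obtain ⟨b, hb⟩ := h _ d a
    obtain ⟨U, hwU, f, hf⟩ := exists_nhd_lift_of_stalk p w
      (pullback.lift (H.left.fromSpecStalk w) b.left (congrArg (fun m => m.left) hb).symm) (pullback.lift_fst _ _ _)
    refine ⟨U, hwU, f ≫ pullback.snd i.left i'.left, ?_⟩
    rw [Category.assoc, ← pullback.condition, ← Category.assoc, hf]
  let O : H.left.Opens :=
    ⨆ U : {U : H.left.Opens // ∃ f : (U : Scheme.{u}) ⟶ H'.left, f ≫ i'.left = U.ι ≫ i.left}, U.1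
  obtain ⟨V, hsV, hV⟩ := exists_nhd_preimage_le H.hom O s fun w hw => by
    obtain ⟨U, hwU, hU⟩ := hpt w hw
    exact TopologicalSpace.Opens.mem_iSup.mpr ⟨⟨U, hU⟩, hwU⟩
  refine ⟨V, hsV, fun X x a => ?_⟩
  have hO : ∀ q : X, a.left q ∈ O := fun q => hV (by
    change H.hom.base (a.left q) ∈ V
    rw [← Scheme.Hom.comp_apply, Over.w a]
    change (x ≫ V.ι).base q ∈ V
    rw [Scheme.Hom.comp_apply]
    exact (x.base q).2)
  choose U hU using fun q : X => TopologicalSpace.Opens.mem_iSup.mp (hO q)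
  obtain ⟨b, hb⟩ := exists_lift_of_cover i'.left (a.left ≫ i.left)
    (X.openCoverOfIsOpenCover (fun q => a.left ⁻¹ᵁ (U q).1)
      (eq_top_iff.mpr fun q _ => TopologicalSpace.Opens.mem_iSup.mpr ⟨q, hU q⟩)) fun q => by
    obtain ⟨f, hf⟩ := (U q).2
    refine ⟨a.left.resLE _ _ le_rfl ≫ f, ?_⟩
    rw [Category.assoc, hf, Scheme.Hom.resLE_comp_ι_assoc]
    rfl
  refine ⟨Over.homMk b ?_, Over.OverMorphism.ext hb⟩
  rw [← Over.w i', ← Category.assoc, hb, Category.assoc, Over.w i]
  exact Over.w a

end Groth.Agent.H21SubEq
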