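import Groth.Agent.H21SubEq.Points
import Groth.Agent.H21Diag.Actions
import Groth.Agent.H21Fix.FiniteNhd

/-!
Translation from the left and the right through two homomorphisms.
-/

set_option autoImplicit false
set_option linter.style.haveILetI false
set_option backward.isDefEq.respectTransparency false
set_option synthInstance.maxHeartbeats 200000

universe u

open CategoryTheory MonoidalCategory CartesianMonoidalCategory MonObj GrpObj AlgebraicGeometry
open CategoryTheory.Limits
open Groth.Agent.H21Diag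

namespace Groth.Agent.H21SubEq

section
variable {S : Scheme.{u}} {G H : Over S} [GrpObj G] [GrpObj H] (u v : G ⟶ H) [IsMonHom u] [IsMonHom v]

/-- `x ↦ u(g) x v(g)⁻¹` -/
noncomputable def biAct : AlgGrp.Action G H where
  act := (fst G H ≫ u) * snd G H * (fst G H ≫ v)⁻¹
  one_act := by
    simp only [MonObj.comp_mul, GrpObj.comp_inv, whiskerRight_fst_assoc, whiskerRight_snd, IsMonHom.one_hom]
    rw [show fst (𝟙_ (Over S)) H ≫ η[H] = 1 by simp [Hom.one_def, toUnit_unique (fst _ _) (toUnit _)]]
    simp [leftUnitor_hom]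
  mul_act := by
    simp only [MonObj.comp_mul, GrpObj.comp_inv, ← Category.assoc, whiskerRight_fst, whiskerRight_snd,
      whiskerLeft_fst, whiskerLeft_snd]
    simp only [mul_eq_mul, MonObj.comp_mul, MonObj.mul_comp, Category.assoc,
      associator_hom_fst, associator_hom_snd_snd, associator_hom_snd_fst]
    simp [_root_.mul_assoc]

theorem lift_biAct {T : Over S} (g : T ⟶ G) (x : T ⟶ H) :
    lift g x ≫ (biAct u v).act = (g ≫ u) * x * (g ≫ v)⁻¹ := by
  simp [biAct, MonObj.comp_mul, GrpObj.comp_inv]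

end

variable {R : Type u} [CommRing R] {M : Type} [AddCommGroup M] {G : Over (Bs R)} [GrpObj G]
  (u v : Red.DS (Bs R) M ⟶ G) [IsMonHom u] [IsMonHom v]

/-- the translate of a point -/
theorem act_biAct {D : Type u} [CommRing D] (g : R →+* D) (χ : Multiplicative M →* D)
    {y : Spec (CommRingCat.of D) ⟶ Bs R} (hy : y = tg g) (x : Over.mk (tg g) ⟶ G)
    (hx : x.left ≫ G.hom = y ≫ 𝟙 _) :
    act (idChart (Bs R) M) (biAct u v) y χ x.left hx = ((pt g χ ≫ u) * x * (pt g χ ≫ v)⁻¹).left := by
  subst hy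
  let τ : (Over.mk (tg g ≫ 𝟙 _) : Over (Bs R)) ⟶ Over.mk (tg g) :=
    Over.homMk (𝟙 _) ((Category.id_comp _).trans (Category.comp_id _).symm)
  have h1 : gpt (idChart (Bs R) M) (tg g) χ = τ ≫ pt g χ :=
    Over.OverMorphism.ext ((gpt_idChart _ _).trans (Category.id_comp _).symm)
  have h2 : (Over.homMk x.left hx : Over.mk (tg g ≫ 𝟙 _) ⟶ G) = τ ≫ x :=
    Over.OverMorphism.ext (Category.id_comp _).symm
  change (lift (gpt (idChart (Bs R) M) (tg g) χ) (Over.homMk x.left hx) ≫ (biAct u v).act).left = _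
  rw [h1, h2, ← comp_lift, Category.assoc, lift_biAct]
  exact Category.id_comp _

/-- the criterion for the translate to be the point -/
theorem act_biAct_eq_self_iff {D : Type u} [CommRing D] (g : R →+* D) (χ : Multiplicative M →* D)
    {y : Spec (CommRingCat.of D) ⟶ Bs R} (hy : y = tg g) (x : Over.mk (tg g) ⟶ G)
    (hx : x.left ≫ G.hom = y ≫ 𝟙 _) :
    act (idChart (Bs R) M) (biAct u v) y χ x.left hx = x.left ↔ (pt g χ ≫ u) * x = x * (pt g χ ≫ v) := by
  rw [act_biAct u v g χ hy x hx]
  constructor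
  · intro h
    exact mul_inv_eq_iff_eq_mul.mp (Over.OverMorphism.ext h)
  · intro h
    exact congrArg (fun m => m.left) (mul_inv_eq_iff_eq_mul.mpr h)

end Groth.Agent.H21SubEq
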