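import Groth.Agent.H21Fix.FieldFibre

/-!
Two morphisms out of a split diagonalisable group which agree on all finite quotients and on every point agree.
-/

set_option autoImplicit false
set_option linter.style.haveILetI false
set_option backward.isDefEq.respectTransparency false

universe u

open CategoryTheory AlgebraicGeometry
open CategoryTheory.Limits
open Groth.Agent.H21Diag Groth.Agent.H21Fix

namespace Groth.Agent.H21SubEq

variable {D : Type u} [CommRing D] {M : Type} [AddCommGroup M]

/-- the map to the group algebra of a quotient -/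
noncomputable abbrev quotMap (D : Type u) [CommRing D] (P : Submodule ℤ M) :
    MonoidAlgebra D (Multiplicative M) →+* MonoidAlgebra D (Multiplicative (M ⧸ P)) :=
  MonoidAlgebra.mapDomainRingHom D (AddMonoidHom.toMultiplicative P.mkQ.toAddMonoidHom)

theorem eq_of_finite_quotients [Module.Finite ℤ M] {X Y : Scheme.{u}} (π : X ⟶ Y)
    (f g : Spec (CommRingCat.of (MonoidAlgebra D (Multiplicative M))) ⟶ X) (hπ : f ≫ π = g ≫ π)
    (hpts : IsSeparated π ∨ ∀ q : PrimeSpectrum (MonoidAlgebra D (Multiplicative M)),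
      ∃ (K : Type u) (_ : Field K) (ρ : MonoidAlgebra D (Multiplicative M) →+* K), RingHom.ker ρ = q.asIdeal ∧
        Spec.map (CommRingCat.ofHom ρ) ≫ f = Spec.map (CommRingCat.ofHom ρ) ≫ g)
    (h : ∀ P : Submodule ℤ M, Finite (M ⧸ P) →
      Spec.map (CommRingCat.ofHom (quotMap D P)) ≫ f = Spec.map (CommRingCat.ofHom (quotMap D P)) ≫ g) :
    f = g := by
  classical
  let c := pullback.fst (pullback.lift f g hπ) (pullback.diagonal π)
  have key : ∀ {T : Scheme.{u}} (t : T ⟶ Spec (CommRingCat.of (MonoidAlgebra D (Multiplicative M)))),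
      t ≫ f = t ≫ g → ∃ k : T ⟶ _, k ≫ c = t := fun {T} t ht =>
    ⟨pullback.lift t (t ≫ f) (by
      refine pullback.hom_ext ?_ ?_ <;> simp only [Category.assoc, pullback.lift_fst, pullback.lift_snd,
        pullback.diagonal_fst, pullback.diagonal_snd, Category.comp_id, ht]), pullback.lift_fst _ _ _⟩
  have : IsClosedImmersion c := by
    rcases hpts with hsep | hpts
    · infer_instance
    · refine .of_isPreimmersion _ ?_
      rw [show Set.range c.base = Set.univ from Set.eq_univ_of_forall fun q => ?_]
      · exact isClosed_univ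
      · obtain ⟨K, _, ρ, hρ, he⟩ := hpts q
        obtain ⟨k, hk⟩ := key _ he
        refine ⟨k.base (IsLocalRing.closedPoint K), ?_⟩
        rw [← Scheme.Hom.comp_apply, hk]
        refine PrimeSpectrum.ext ?_
        change (IsLocalRing.maximalIdeal K).comap ρ = q.asIdeal
        rw [IsLocalRing.maximalIdeal_eq_bot, ← RingHom.ker_eq_comap_bot, hρ]
  obtain ⟨I, ε, hε⟩ := IsClosedImmersion.Spec_iff.mp this
  have hI0 : I = ⊥ := by
    refine eq_bot_iff.mpr fun v hv => Ideal.mem_bot.mpr (eq_zero_of_finite_quotients v fun P hP => ?_)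
    obtain ⟨k, hk⟩ := key _ (h P hP)
    obtain ⟨ψ, hψ⟩ := Spec.map_surjective (k ≫ ε.hom)
    have h2 : quotMap D P = ψ.hom.comp (Ideal.Quotient.mk I) := congrArg CommRingCat.Hom.hom (Spec.map_injective (by
      rw [specMap_comp, CommRingCat.ofHom_hom, hψ, Category.assoc, ← hε, hk]) :
        CommRingCat.ofHom (quotMap D P) = CommRingCat.ofHom (ψ.hom.comp (Ideal.Quotient.mk I)))
    change quotMap D P v = 0
    rw [h2, RingHom.comp_apply, Ideal.Quotient.eq_zero_iff_mem.mpr hv, map_zero]
  subst hI0
  let σ : MonoidAlgebra D (Multiplicative M) ⧸ (⊥ : Ideal _) →+* MonoidAlgebra D (Multiplicative M) :=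
    Ideal.Quotient.lift ⊥ (RingHom.id _) fun v hv => Ideal.mem_bot.mp hv
  let k := Spec.map (CommRingCat.ofHom σ) ≫ ε.inv
  have hk : k ≫ c = 𝟙 _ := by
    rw [Category.assoc, hε, Iso.inv_hom_id_assoc, ← specMap_comp,
      Ideal.Quotient.lift_comp_mk, CommRingCat.ofHom_id, Spec.map_id]
  have h3 := congrArg (k ≫ ·) (pullback.condition (f := pullback.lift f g hπ) (g := pullback.diagonal π))
  have h4 := congrArg (· ≫ pullback.fst _ _) h3
  have h5 := congrArg (· ≫ pullback.snd _ _) h3
  simp only [Category.assoc, pullback.lift_fst, pullback.lift_snd, pullback.diagonal_fst,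
    pullback.diagonal_snd, Category.comp_id] at h4 h5
  rw [← Category.assoc, hk, Category.id_comp] at h4 h5
  exact h4.trans h5.symm

end Groth.Agent.H21SubEq
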