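import Groth.Agent.H21SubEq.Action
import Groth.Agent.H21SubEq.Density

/-!
Two split subgroups which are equal and central modulo an ideal of a local ring are equal.
-/

set_option autoImplicit false
set_option linter.style.haveILetI false
set_option backward.isDefEq.respectTransparency false
set_option synthInstance.maxHeartbeats 200000
set_option maxHeartbeats 800000

universe u

open CategoryTheory MonoidalCategory CartesianMonoidalCategory MonObj GrpObj AlgebraicGeometry
open CategoryTheory.Limits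
open Groth.Agent.H21Diag

namespace Groth.Agent.H21SubEq

variable {R : Type u} [CommRing R] {M M' : Type} [AddCommGroup M] [AddCommGroup M']
  {G : Over (Bs R)} [GrpObj G] (u : Red.DS (Bs R) M ⟶ G) (u' : Red.DS (Bs R) M' ⟶ G)

/-- modulo `J` the image is central -/
def CentMod (J : Ideal R) : Prop :=
  ∀ (D : Type u) [CommRing D] (g : R →+* D), J.map g = ⊥ → ∀ (χ : Multiplicative M →* D)
    (x : Over.mk (tg g) ⟶ G), x * (pt g χ ≫ u) = (pt g χ ≫ u) * x

/-- modulo `J` the first image is in the second -/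
def LEMod (J : Ideal R) : Prop :=
  ∀ (D : Type u) [CommRing D] (g : R →+* D), J.map g = ⊥ → ∀ χ : Multiplicative M →* D,
    ∃ χ' : Multiplicative M' →* D, pt g χ' ≫ u' = pt g χ ≫ u

section eqv
variable (v : Red.DS (Bs R) M ⟶ G) [IsMonHom u] [IsMonHom v]

/-- agreement on a test ring -/
def EqAt {D : Type u} [CommRing D] (g : R →+* D) : Prop :=
  ∀ χ : Multiplicative M →* D, pt g χ ≫ u = pt g χ ≫ v

omit [GrpObj G] [IsMonHom u] [IsMonHom v] in
theorem rmap_pt_comp {D : Type u} [CommRing D] (g : R →+* D) {D' : Type u} [CommRing D'] (g' : R →+* D')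
    (φ : D →+* D') (h : φ.comp g = g') (χ : Multiplicative M →* D) :
    (pt g' (φ.toMonoidHom.comp χ) ≫ u).left = Spec.map (CommRingCat.ofHom φ) ≫ (pt g χ ≫ u).left := by
  rw [← rmap_pt g g' φ h, Category.assoc]
  rfl

/-- agreement modulo `J` and centrality give agreement modulo the powers of `J` -/
theorem eqAt_of_pow {J : Ideal R} (hc : CentMod u J)
    (h0 : ∀ (D : Type u) [CommRing D] (g : R →+* D), J.map g = ⊥ → EqAt u v g)
    {D : Type u} [CommRing D] (g : R →+* D) (hJ : IsNilpotent (J.map g)) : EqAt u v g := by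
  intro χ
  have ht : Triv (idChart (Bs R) M) (biAct u v) (𝟙 _) J := by
    intro B _ φ hφ χ' x hx
    let x' : Over.mk (tg φ) ⟶ G := Over.homMk x (hx.trans (by rw [Category.comp_id]; exact Category.comp_id _))
    refine (act_biAct_eq_self_iff u v φ χ' (Category.comp_id _) x' hx).mpr ?_
    rw [← h0 B φ hφ χ']
    exact (hc B φ hφ χ' x').symm
  have hx : (1 : Over.mk (tg g) ⟶ G).left ≫ G.hom = (tg g ≫ 𝟙 _) ≫ 𝟙 _ :=
    (Over.w _).trans ((Category.comp_id _).trans (Category.comp_id _)).symm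
  have h := (act_biAct_eq_self_iff u v g χ (Category.comp_id _) (1 : Over.mk (tg g) ⟶ G) hx).mp
    (act_eq_self hJ (ht.map g) χ _ hx)
  rwa [_root_.mul_one, _root_.one_mul] at h

/-- agreement on finite quotients, when the structure map is of finite type -/
theorem eq_finite_of_lft [IsLocalRing R] [LocallyOfFiniteType G.hom] {J : Ideal R}
    (hJ : J ≤ IsLocalRing.maximalIdeal R) (hc : CentMod u J)
    (h0 : ∀ (D : Type u) [CommRing D] (g : R →+* D), J.map g = ⊥ → EqAt u v g)
    {N : Type} [CommGroup N] [Finite N] (p : Multiplicative M →* N)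
    {D : Type u} [CommRing D] (g : R →+* D) (χ : N →* D) :
    pt g (χ.comp p) ≫ u = pt g (χ.comp p) ≫ v := by
  let e := idChart (Bs R) M
  let a := biAct u v
  have ht : Triv e a (𝟙 _) J := by
    intro B _ φ hφ χ' x hx
    let x' : Over.mk (tg φ) ⟶ G := Over.homMk x (hx.trans (by rw [Category.comp_id]; exact Category.comp_id _))
    refine (act_biAct_eq_self_iff u v φ χ' (Category.comp_id _) x' hx).mpr ?_
    rw [← h0 B φ hφ χ']
    exact (hc B φ hφ χ' x').symm
  let X := H21Fix.XP (X := G) (u₀ := 𝟙 (Bs R)) (𝟙 (Bs R))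
  let s₀ : Bs R ⟶ X := pullback.lift (η[G]).left (𝟙 _) (by
    rw [show (η[G]).left ≫ G.hom = 𝟙 (Bs R) from Over.w η[G]]; simp)
  obtain ⟨O, hO, hmO, -⟩ := exists_isAffineOpen_mem_and_subset (U := ⊤)
    (x := s₀.base (IsLocalRing.closedPoint R)) (Set.mem_univ _)
  obtain ⟨φ, hφ⟩ := Spec.map_surjective (hO.fromSpec ≫ pullback.snd G.hom (𝟙 (Bs R) ≫ 𝟙 (Bs R)))
  letI : Algebra R Γ(X, O) := φ.hom.toAlgebra
  have hj : hO.fromSpec ≫ pullback.snd _ _ = Spec.map (CommRingCat.ofHom (algebraMap R Γ(X, O))) := hφ.symm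
  haveI : Algebra.FiniteType R Γ(X, O) := by
    have h1 : LocallyOfFiniteType (Spec.map φ) := by rw [hφ]; infer_instance
    exact (HasRingHomProperty.Spec_iff (P := @LocallyOfFiniteType)).mp h1
  obtain ⟨P, hP⟩ : s₀.base (IsLocalRing.closedPoint R) ∈ Set.range hO.fromSpec.base := by
    rw [hO.range_fromSpec]; exact hmO
  have hPm : J.map (algebraMap R Γ(X, O)) ≤ (P : PrimeSpectrum _).asIdeal := by
    refine Ideal.map_le_iff_le_comap.mpr (hJ.trans (le_of_eq ?_))
    have h1 : (Spec.map φ).base P = IsLocalRing.closedPoint R := by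
      rw [hφ, Scheme.Hom.comp_apply, hP, ← Scheme.Hom.comp_apply, pullback.lift_snd]
      rfl
    exact (congrArg PrimeSpectrum.asIdeal h1).symm
  obtain ⟨W₀, hPW, hW₀⟩ := H21Fix.exists_nhd_fixed e a (𝟙 _) ht p hO.fromSpec hj P hPm
  let w : Spec (CommRingCat.of D) ⟶ X := tg g ≫ s₀
  have hwW : ∀ z, w.base z ∈ hO.fromSpec ''ᵁ W₀ := fun z => by
    refine Specializes.mem_open ?_ (hO.fromSpec ''ᵁ W₀).2 ⟨P, hPW, hP⟩
    rw [Scheme.Hom.comp_apply]
    exact (IsLocalRing.specializes_closedPoint _).map s₀.continuous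
  obtain ⟨ψ, hψ⟩ := Spec.map_surjective (IsOpenImmersion.lift hO.fromSpec w (by
    rintro _ ⟨z, rfl⟩; obtain ⟨z', -, hz'⟩ := hwW z; exact ⟨z', hz'⟩))
  have hw' : Spec.map (CommRingCat.ofHom ψ.hom) ≫ hO.fromSpec = w := by
    rw [CommRingCat.ofHom_hom, hψ, IsOpenImmersion.lift_fac]
  have hwsnd : w ≫ pullback.snd _ _ = tg g := by simp [w, s₀]
  have hg : g = ψ.hom.comp (algebraMap R Γ(X, O)) :=
    congrArg CommRingCat.Hom.hom (Spec.map_injective (by
      rw [specMap_comp, ← hj, ← Category.assoc, hw', hwsnd]) :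
        CommRingCat.ofHom g = CommRingCat.ofHom (ψ.hom.comp (algebraMap R Γ(X, O))))
  have hfix := hW₀ D ψ.hom (by
    rintro _ ⟨z, rfl⟩
    obtain ⟨z', hz', he⟩ := hwW z
    rw [← hw', Scheme.Hom.comp_apply] at he
    rwa [← hO.fromSpec.isOpenEmbedding.injective he]) χ (by rw [hw', hwsnd]; exact congrArg tg hg)
  have h2 := congrArg (· ≫ pullback.fst _ _) hfix
  rw [H21Fix.actP_fst] at h2
  have hone : (1 : Over.mk (tg g) ⟶ G).left = (Spec.map (CommRingCat.ofHom ψ.hom) ≫ hO.fromSpec) ≫ pullback.fst _ _ := by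
    rw [hw', Category.assoc, pullback.lift_fst]
    rfl
  have hx : (1 : Over.mk (tg g) ⟶ G).left ≫ G.hom = (tg g ≫ 𝟙 _) ≫ 𝟙 _ :=
    (Over.w _).trans ((Category.comp_id _).trans (Category.comp_id _)).symm
  have h3 := (act_biAct_eq_self_iff u v g (χ.comp p) (Category.comp_id _) (1 : Over.mk (tg g) ⟶ G) hx).mp
    ((act_congr e a (by rw [hg]) rfl hone).trans (h2.trans hone.symm))
  rwa [_root_.mul_one, _root_.one_mul] at h3

omit [GrpObj G] [IsMonHom u] [IsMonHom v] in
theorem eqAt_of_univ {D : Type u} [CommRing D] (g : R →+* D)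
    (h : (pt (MonoidAlgebra.singleOneRingHom.comp g) (MonoidAlgebra.of D (Multiplicative M)) ≫ u).left =
      (pt (MonoidAlgebra.singleOneRingHom.comp g) (MonoidAlgebra.of D (Multiplicative M)) ≫ v).left) :
    EqAt u v g := by
  intro χ
  let ev := H21Fix.ev (RingHom.id D) χ
  have he : ev.comp (MonoidAlgebra.singleOneRingHom.comp g) = g := RingHom.ext fun x => by simp [ev]
  have hχ : ev.toMonoidHom.comp (MonoidAlgebra.of D (Multiplicative M)) = χ := MonoidHom.ext fun x => by simp [ev]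
  refine Over.OverMorphism.ext ?_
  rw [← hχ, rmap_pt_comp u _ g ev he, rmap_pt_comp v _ g ev he, h]

omit [IsMonHom u] [IsMonHom v] in
/-- agreement on all finite quotients is agreement -/
theorem eqAt_of_finite [Module.Finite ℤ M]
    (hfin : ∀ (P : Submodule ℤ M), Finite (M ⧸ P) → ∀ (D : Type u) [CommRing D] (g : R →+* D)
      (χ : Multiplicative (M ⧸ P) →* D), pt g (χ.comp (AddMonoidHom.toMultiplicative P.mkQ.toAddMonoidHom)) ≫ u =
        pt g (χ.comp (AddMonoidHom.toMultiplicative P.mkQ.toAddMonoidHom)) ≫ v)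
    {D : Type u} [CommRing D] (g : R →+* D) : EqAt u v g := by
  suffices main : ∀ {D : Type u} [CommRing D] (g : R →+* D),
      (IsSeparated (pullback.snd G.hom (tg g)) ∨ ∀ q : PrimeSpectrum (MonoidAlgebra D (Multiplicative M)),
        ∀ (K : Type u) [Field K] (g' : R →+* K), EqAt u v g') → EqAt u v g by
    refine main g (Or.inr fun _ K _ g' => main g' (Or.inl ?_))
    exact H19Grp.PointsDense.isSeparated_grp (Red.bc (tg g') G)
  intro D _ g hcase
  let s : D →+* MonoidAlgebra D (Multiplicative M) := MonoidAlgebra.singleOneRingHom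
  let of := MonoidAlgebra.of D (Multiplicative M)
  refine eqAt_of_univ u v g ?_
  let lift' : (Over.mk (tg (s.comp g)) ⟶ G) →
      (Spec (CommRingCat.of (MonoidAlgebra D (Multiplicative M))) ⟶ pullback G.hom (tg g)) := fun a =>
    pullback.lift a.left (Spec.map (CommRingCat.ofHom s)) ((Over.w a).trans (specMap_comp g s))
  have h1 := eq_of_finite_quotients (pullback.snd G.hom (tg g)) (lift' (pt _ of ≫ u)) (lift' (pt _ of ≫ v))
    (by simp only [lift', pullback.lift_snd]) ?_ ?_
  · have h2 := congrArg (· ≫ pullback.fst _ _) h1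
    simpa only [lift', pullback.lift_fst] using h2
  · refine hcase.imp id fun hK q => ⟨q.asIdeal.ResidueField, inferInstance,
      algebraMap _ q.asIdeal.ResidueField, Ideal.ker_algebraMap_residueField _, ?_⟩
    refine pullback.hom_ext ?_ ?_
    · simp only [lift', Category.assoc, pullback.lift_fst]
      rw [← rmap_pt_comp u _ _ _ rfl, ← rmap_pt_comp v _ _ _ rfl]
      exact congrArg (fun m => m.left) (hK q q.asIdeal.ResidueField _ _)
    · simp only [lift', Category.assoc, pullback.lift_snd]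
  · intro P hP
    refine pullback.hom_ext ?_ ?_
    · simp only [lift', Category.assoc, pullback.lift_fst]
      rw [← rmap_pt_comp u _ _ _ rfl, ← rmap_pt_comp v _ _ _ rfl]
      have h3 : (quotMap D P).toMonoidHom.comp of = (MonoidAlgebra.of D (Multiplicative (M ⧸ P))).comp
          (AddMonoidHom.toMultiplicative P.mkQ.toAddMonoidHom) := MonoidHom.ext fun x => by simp [of]
      rw [h3]
      exact congrArg (fun m => m.left) (hfin P hP (MonoidAlgebra D (Multiplicative (M ⧸ P))) _ _)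
    · simp only [lift', Category.assoc, pullback.lift_snd]

end eqv

/-- Two subgroups equal and central modulo `J` are equal. -/
theorem exists_char_equiv [IsLocalRing R] [Module.Finite ℤ M] [IsMonHom u] [IsMonHom u'] [Mono u] [Mono u']
    {J : Ideal R} (hJ : J ≤ IsLocalRing.maximalIdeal R) (hc : CentMod u J) (hle : LEMod u u' J)
    (hle' : LEMod u' u J)
    (hG : LocallyOfFiniteType G.hom ∨ ((∀ k : ℕ, LEMod u u' (J ^ k)) → ∀ P : Submodule ℤ M, Finite (M ⧸ P) →
      ∀ (D : Type u) [CommRing D] (g : R →+* D) (χ : Multiplicative (M ⧸ P) →* D),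
        ∃ χ' : Multiplicative M' →* D,
          pt g χ' ≫ u' = pt g (χ.comp (AddMonoidHom.toMultiplicative P.mkQ.toAddMonoidHom)) ≫ u)) :
    ∃ σ : M' ≃+ M, ∀ (D : Type u) [CommRing D] (g : R →+* D) (χ : Multiplicative M →* D),
      pt g (χ.comp (AddMonoidHom.toMultiplicative σ.toAddMonoidHom)) ≫ u' = pt g χ ≫ u := by
  classical
  haveI : Nontrivial (R ⧸ J) :=
    Ideal.Quotient.nontrivial_iff.mpr fun h => (IsLocalRing.maximalIdeal.isMaximal R).ne_top (top_le_iff.mp (h ▸ hJ))
  haveI : IsLocalRing (R ⧸ J) := IsLocalRing.of_surjective' (Ideal.Quotient.mk J) Ideal.Quotient.mk_surjective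
  have huniv : ∀ (N : Type) [AddCommGroup N],
      J.map ((MonoidAlgebra.singleOneRingHom : R ⧸ J →+* MonoidAlgebra (R ⧸ J) (Multiplicative N)).comp
        (Ideal.Quotient.mk J)) = ⊥ := fun N _ => by
    rw [← Ideal.map_map, Ideal.map_quotient_self, Ideal.map_bot]
  obtain ⟨σ₀, hσ₀⟩ := exists_char u u' (Ideal.Quotient.mk J) (hle _ _ (huniv M) _)
  obtain ⟨σ₁, hσ₁⟩ := exists_char u' u (Ideal.Quotient.mk J) (hle' _ _ (huniv M') _)
  have hinv : ∀ {N N' : Type} [AddCommGroup N] [AddCommGroup N'] (a : N' →+ N) (b : N →+ N')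
      (w : Red.DS (Bs R) N ⟶ G) (w' : Red.DS (Bs R) N' ⟶ G), Mono w →
      (∀ (D : Type u) [CommRing D] (φ : R ⧸ J →+* D) (χ : Multiplicative N →* D),
        pt (φ.comp (Ideal.Quotient.mk J)) (χ.comp (AddMonoidHom.toMultiplicative a)) ≫ w' =
          pt (φ.comp (Ideal.Quotient.mk J)) χ ≫ w) →
      (∀ (D : Type u) [CommRing D] (φ : R ⧸ J →+* D) (χ : Multiplicative N' →* D),
        pt (φ.comp (Ideal.Quotient.mk J)) (χ.comp (AddMonoidHom.toMultiplicative b)) ≫ w =
          pt (φ.comp (Ideal.Quotient.mk J)) χ ≫ w') → ∀ x, a (b x) = x := by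
    intro N N' _ _ a b w w' hw ha hb x
    let s : R ⧸ J →+* MonoidAlgebra (R ⧸ J) (Multiplicative N) := MonoidAlgebra.singleOneRingHom
    let of := MonoidAlgebra.of (R ⧸ J) (Multiplicative N)
    have h1 := pt_comp_injective w _ ((hb _ s _).trans (ha _ s of))
    have h2 := DFunLike.congr_fun h1 (Multiplicative.ofAdd x)
    exact Multiplicative.ofAdd.injective (MonoidAlgebra.of_injective h2)
  let σ : M' ≃+ M :=
    { toFun := σ₀
      invFun := σ₁
      left_inv := hinv σ₁ σ₀ u' u inferInstance hσ₁ hσ₀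
      right_inv := hinv σ₀ σ₁ u u' inferInstance hσ₀ hσ₁
      map_add' := map_add σ₀ }
  refine ⟨σ, fun D _ g χ => ?_⟩
  haveI := isMonHom_DSmap (Bs R) σ₀
  let v : Red.DS (Bs R) M ⟶ G := Red.DSmap (Bs R) σ₀ ≫ u'
  have hv : ∀ {D : Type u} [CommRing D] (g : R →+* D) (χ : Multiplicative M →* D),
      pt g χ ≫ v = pt g (χ.comp (AddMonoidHom.toMultiplicative σ₀)) ≫ u' := fun g χ => by
    simp only [v, ← Category.assoc, pt_comp_DSmap]
  have h0 : ∀ (D : Type u) [CommRing D] (g : R →+* D), J.map g = ⊥ → EqAt u v g := by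
    intro D _ g hg χ
    let φ : R ⧸ J →+* D := Ideal.Quotient.lift J g fun r hr => Ideal.mem_bot.mp (hg ▸ Ideal.mem_map_of_mem g hr)
    have h1 := hσ₀ D φ χ
    rw [show φ.comp (Ideal.Quotient.mk J) = g from Ideal.Quotient.lift_comp_mk _ _ _] at h1
    exact ((hv g χ).trans h1).symm
  suffices hfin : ∀ (P : Submodule ℤ M), Finite (M ⧸ P) → ∀ (D : Type u) [CommRing D] (g : R →+* D)
      (χ : Multiplicative (M ⧸ P) →* D), pt g (χ.comp (AddMonoidHom.toMultiplicative P.mkQ.toAddMonoidHom)) ≫ u =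
        pt g (χ.comp (AddMonoidHom.toMultiplicative P.mkQ.toAddMonoidHom)) ≫ v from
    (hv g χ).symm.trans (eqAt_of_finite u v hfin g χ).symm
  intro P hP D' _ g' χ'
  rcases hG with hG | hG
  · exact eq_finite_of_lft u v hJ hc h0 _ g' χ'
  · let p := P.mkQ.toAddMonoidHom
    haveI := isMonHom_DSmap (Bs R) p
    have hle_pow : ∀ k : ℕ, LEMod u u' (J ^ k) := fun k B _ f hf χ₁ =>
      ⟨_, (hv f χ₁).symm.trans (eqAt_of_pow u v hc h0 f ⟨k, by rw [← Ideal.map_pow, hf]; rfl⟩ χ₁).symm⟩
    obtain ⟨σN, hσN⟩ := exists_char (Red.DSmap (Bs R) p ≫ u) u' (RingHom.id R) (by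
      obtain ⟨θ, hθ⟩ := hG hle_pow P hP _ _ (MonoidAlgebra.of R (Multiplicative (M ⧸ P)))
      exact ⟨θ, hθ.trans (by rw [← Category.assoc, pt_comp_DSmap])⟩)
    have hσN' : ∀ (B : Type u) [CommRing B] (f : R →+* B) (c : Multiplicative (M ⧸ P) →* B),
        pt f (c.comp (AddMonoidHom.toMultiplicative σN)) ≫ u' =
          pt f (c.comp (AddMonoidHom.toMultiplicative p)) ≫ u := fun B _ f c => by
      have h1 := hσN B f c
      rwa [RingHom.comp_id, ← Category.assoc, pt_comp_DSmap] at h1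
    let s : R ⧸ J →+* MonoidAlgebra (R ⧸ J) (Multiplicative (M ⧸ P)) := MonoidAlgebra.singleOneRingHom
    let of := MonoidAlgebra.of (R ⧸ J) (Multiplicative (M ⧸ P))
    have h1 := (hσN' _ (s.comp (Ideal.Quotient.mk J)) of).trans
      ((h0 _ _ (huniv _) (of.comp (AddMonoidHom.toMultiplicative p))).trans (hv _ _))
    have hσ : σN = p.comp σ₀ := AddMonoidHom.ext fun x =>
      Multiplicative.ofAdd.injective (MonoidAlgebra.of_injective
        (DFunLike.congr_fun (pt_comp_injective u' _ h1) (Multiplicative.ofAdd x)))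
    rw [hv, ← hσN']
    subst hσ
    rfl

end Groth.Agent.H21SubEq
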