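import Groth.Agent.H21Diag.GroupLike
import Groth.Agent.H21Diag.SubgroupSplit
import Groth.Agent.H21Fix.Clearing

/-!
Points of split diagonalisable groups over an affine base, and the character map of an inclusion.
-/

set_option autoImplicit false
set_option linter.style.haveILetI false
set_option backward.isDefEq.respectTransparency false
set_option synthInstance.maxHeartbeats 200000

universe u

open CategoryTheory MonoidalCategory CartesianMonoidalCategory MonObj GrpObj AlgebraicGeometry
open CategoryTheory.Limits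
open Groth.Agent.H21Diag

namespace Groth.Agent.H21SubEq

/-- the base -/
noncomputable abbrev Bs (R : Type u) [CommRing R] : Scheme.{u} := Spec (CommRingCat.of R)

variable {R : Type u} [CommRing R] {M : Type} [AddCommGroup M] {D : Type u} [CommRing D]

/-- a test scheme over the base -/
noncomputable abbrev tg (g : R →+* D) : Spec (CommRingCat.of D) ⟶ Bs R := Spec.map (CommRingCat.ofHom g)

/-- a point of the split group -/
noncomputable abbrev pt (g : R →+* D) (χ : Multiplicative M →* D) : Over.mk (tg g) ⟶ Red.DS (Bs R) M :=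
  dpt (tg g) χ

/-- restriction along a ring map -/
noncomputable def rmap (g : R →+* D) {D' : Type u} [CommRing D'] (g' : R →+* D') (φ : D →+* D')
    (h : φ.comp g = g') : Over.mk (tg g') ⟶ Over.mk (tg g) :=
  Over.homMk (Spec.map (CommRingCat.ofHom φ)) (by subst h; exact (specMap_comp g φ).symm)

theorem rmap_pt (g : R →+* D) {D' : Type u} [CommRing D'] (g' : R →+* D') (φ : D →+* D')
    (h : φ.comp g = g') (χ : Multiplicative M →* D) :
    rmap g g' φ h ≫ pt g χ = pt g' (φ.toMonoidHom.comp χ) := by
  refine bc_ext ?_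
  refine (Category.assoc _ _ _).trans ((congrArg (_ ≫ ·) (dpt_fst _ _)).trans (Eq.trans ?_ (dpt_fst _ _).symm))
  refine (Spec.map_comp _ _).symm.trans (congrArg Spec.map ?_)
  exact CommRingCat.hom_ext (charRingHom_ext fun x => by simp)

theorem pt_mul (g : R →+* D) (χ χ' : Multiplicative M →* D) : pt g (χ * χ') = pt g χ * pt g χ' :=
  dpt_mul _ _ _

theorem pt_surjective (g : R →+* D) (x : Over.mk (tg g) ⟶ Red.DS (Bs R) M) : ∃ χ, pt g χ = x :=
  dpt_surjective _ _

theorem pt_comp_DSmap (g : R →+* D) {N : Type} [AddCommGroup N] (χ : Multiplicative N →* D) (φ : M →+ N) :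
    pt g χ ≫ Red.DSmap (Bs R) φ = pt g (χ.comp (AddMonoidHom.toMultiplicative φ)) :=
  dpt_comp_DSmap _ _ _

variable {G : Over (Bs R)} [GrpObj G]

omit [GrpObj G] in
theorem pt_comp_injective (u' : Red.DS (Bs R) M ⟶ G) [Mono u'] (g : R →+* D) {χ χ' : Multiplicative M →* D}
    (h : pt g χ ≫ u' = pt g χ' ≫ u') : χ = χ' :=
  dpt_injective _ ((cancel_mono u').mp h)

/-- An inclusion of split groups over a local ring is given by a map of characters. -/
theorem exists_char {N : Type} [AddCommGroup N] (u : Red.DS (Bs R) N ⟶ G) [IsMonHom u]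
    (u' : Red.DS (Bs R) M ⟶ G) [IsMonHom u'] [Mono u'] {C : Type u} [CommRing C] [IsLocalRing C] (g₀ : R →+* C)
    (h : ∃ θ : Multiplicative M →* MonoidAlgebra C (Multiplicative N),
      pt (MonoidAlgebra.singleOneRingHom.comp g₀) θ ≫ u' =
        pt (MonoidAlgebra.singleOneRingHom.comp g₀) (MonoidAlgebra.of C (Multiplicative N)) ≫ u) :
    ∃ σ : M →+ N, ∀ (D : Type u) [CommRing D] (φ : C →+* D) (χ : Multiplicative N →* D),
      pt (φ.comp g₀) (χ.comp (AddMonoidHom.toMultiplicative σ)) ≫ u' = pt (φ.comp g₀) χ ≫ u := by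
  classical
  obtain ⟨θ, hθ⟩ := h
  let s : C →+* MonoidAlgebra C (Multiplicative N) := MonoidAlgebra.singleOneRingHom
  have hev : ∀ (D : Type u) [CommRing D] (φ : C →+* D) (χ : Multiplicative N →* D),
      pt (φ.comp g₀) ((H21Fix.ev φ χ).toMonoidHom.comp θ) ≫ u' = pt (φ.comp g₀) χ ≫ u := by
    intro D _ φ χ
    have he : (H21Fix.ev φ χ).comp (s.comp g₀) = φ.comp g₀ := RingHom.ext fun x => by simp [s]
    have h1 := congrArg (rmap (s.comp g₀) (φ.comp g₀) (H21Fix.ev φ χ) he ≫ ·) hθ
    rw [← Category.assoc, ← Category.assoc, rmap_pt, rmap_pt] at h1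
    refine h1.trans ?_
    rw [show (H21Fix.ev φ χ).toMonoidHom.comp (MonoidAlgebra.of C (Multiplicative N)) = χ from
      MonoidHom.ext fun n => by simp]
  have hmul : ∀ (D : Type u) [CommRing D] (φ : C →+* D) (χ χ' : Multiplicative N →* D),
      (H21Fix.ev φ (χ * χ')).toMonoidHom.comp θ =
        (H21Fix.ev φ χ).toMonoidHom.comp θ * (H21Fix.ev φ χ').toMonoidHom.comp θ := by
    intro D _ φ χ χ'
    refine pt_comp_injective u' (φ.comp g₀) ?_
    rw [hev, pt_mul, pt_mul, MonObj.mul_comp, MonObj.mul_comp, hev, hev]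
  let N' := Multiplicative N
  have hgl : ∀ m, IsGL (θ m) := by
    intro m
    let s₂ : C →+* MonoidAlgebra C (N' × N') := MonoidAlgebra.singleOneRingHom
    have he : ∀ F : N' →* N' × N', MonoidAlgebra.mapDomainRingHom C F =
        H21Fix.ev s₂ ((MonoidAlgebra.of C (N' × N')).comp F) := fun F =>
      MonoidAlgebra.ringHom_ext (fun b => by simp [s₂]) fun n => by simp [s₂]
    have h1 := DFunLike.congr_fun (hmul _ s₂ ((MonoidAlgebra.of C (N' × N')).comp (MonoidHom.inl N' N'))
      ((MonoidAlgebra.of C (N' × N')).comp (MonoidHom.inr N' N'))) m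
    unfold IsGL
    rw [he, he, he]
    refine Eq.trans ?_ h1
    have hc : (MonoidAlgebra.of C (N' × N')).comp ((MonoidHom.id N').prod (MonoidHom.id N')) =
        (MonoidAlgebra.of C (N' × N')).comp (MonoidHom.inl N' N') *
          (MonoidAlgebra.of C (N' × N')).comp (MonoidHom.inr N' N') :=
      MonoidHom.ext fun n => by
        simp [MonoidAlgebra.single_mul_single]
    rw [hc]
    rfl
  have hone : ∀ m, ∃ a, θ m = MonoidAlgebra.single a 1 := by
    intro m
    have h01 : ∀ a, (θ m).coeff a = 0 ∨ (θ m).coeff a = 1 := by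
      intro a
      have hid := (gl_idem (hgl m) a).eq
      rcases IsLocalRing.isUnit_or_isUnit_one_sub_self ((θ m).coeff a) with hu | hu
      · exact Or.inr (hu.mul_left_cancel (hid.trans (_root_.mul_one _).symm))
      · refine Or.inl (hu.mul_left_cancel (b := (θ m).coeff a) (c := 0) ?_)
        rw [sub_mul, _root_.one_mul, hid, sub_self, MulZeroClass.mul_zero]
    have hne : θ m ≠ 0 := ((Group.isUnit m).map θ).ne_zero
    obtain ⟨a, ha⟩ : ∃ a, (θ m).coeff a ≠ 0 := by
      by_contra hall
      push Not at hall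
      exact hne (by ext a; simpa using hall a)
    have ha1 := (h01 a).resolve_left ha
    refine ⟨a, ?_⟩
    ext b
    by_cases hb : b = a
    · subst hb; simp [ha1]
    · have h3 := grouplike_coeff (θ m) (hgl m) b a
      rw [if_neg hb, ha1, _root_.mul_one] at h3
      simp [Finsupp.single_eq_of_ne hb, h3]
  choose f hf using hone
  have hinj : Function.Injective (MonoidAlgebra.of C N') := MonoidAlgebra.of_injective
  let fh : Multiplicative M →* N' :=
    { toFun := f
      map_one' := hinj (by simp only [MonoidAlgebra.of_apply]; rw [← hf, map_one]; rfl)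
      map_mul' := fun x y => hinj (((hf (x * y)).symm.trans ((map_mul θ x y).trans
        (congrArg₂ (· * ·) (hf x) (hf y)))).trans (by simp [MonoidAlgebra.single_mul_single])) }
  refine ⟨MonoidHom.toAdditive fh, fun D _ φ χ => ?_⟩
  refine Eq.trans (congrArg (fun c => pt (φ.comp g₀) c ≫ u') (MonoidHom.ext fun m => ?_)) (hev D φ χ)
  change χ (f m) = H21Fix.ev φ χ (θ m)
  rw [hf, H21Fix.ev_single, map_one, _root_.one_mul]

end Groth.Agent.H21SubEq
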