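import Groth.Agent.H21SubEq.Core
import Groth.Agent.H21Fix.Central

/-!
Subgroups becoming split over an affine scheme: translation to points of split groups.
-/

set_option autoImplicit false
set_option linter.style.haveILetI false
set_option backward.isDefEq.respectTransparency false
set_option synthInstance.maxHeartbeats 200000
set_option maxHeartbeats 800000

universe u

open CategoryTheory MonoidalCategory CartesianMonoidalCategory MonObj GrpObj AlgebraicGeometry
open CategoryTheory.Limits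
open Groth.Agent.H21Diag

namespace Groth.Agent.H21SubEq

variable {S : Scheme.{u}} {G H H' : Over S} {R : Type u} [CommRing R] {z : Bs R ⟶ S} {M M' : Type}
  [AddCommGroup M] [AddCommGroup M'] [GrpObj G] [GrpObj H] [GrpObj H']

/-- the inclusion seen on the split group -/
noncomputable def incl (i : H ⟶ G) (c : Grp.mk (Red.bc z H) ≅ Grp.mk (Red.DS (Bs R) M)) :
    Red.DS (Bs R) M ⟶ Red.bc z G :=
  c.inv.hom.hom ≫ (Over.pullback z).map i

theorem isMonHom_incl (i : H ⟶ G) [IsMonHom i] (c : Grp.mk (Red.bc z H) ≅ Grp.mk (Red.DS (Bs R) M)) :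
    IsMonHom (incl i c) := by
  haveI := isMonHom_bcMap z i
  haveI : IsMonHom c.inv.hom.hom := c.inv.hom.isMonHom_hom
  unfold incl
  infer_instance

omit [GrpObj G] in
theorem mono_incl (i : H ⟶ G) [Mono i] (c : Grp.mk (Red.bc z H) ≅ Grp.mk (Red.DS (Bs R) M)) :
    Mono (incl i c) := by
  haveI : IsIso c.inv.hom.hom := (inferInstance : IsIso ((Grp.forget _).map c.inv))
  haveI := (Over.pullback z).map_mono i
  unfold incl
  exact mono_comp _ _

/-- the point given by a character -/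
noncomputable def cpt (c : Grp.mk (Red.bc z H) ≅ Grp.mk (Red.DS (Bs R) M)) {D : Type u} [CommRing D]
    (g : R →+* D) (χ : Multiplicative M →* D) : Over.mk (tg g ≫ z) ⟶ H :=
  (bcEquiv z H (Over.mk (tg g))).symm (pt g χ ≫ c.inv.hom.hom)

omit [GrpObj G] in
theorem pt_incl (i : H ⟶ G) (c : Grp.mk (Red.bc z H) ≅ Grp.mk (Red.DS (Bs R) M)) {D : Type u} [CommRing D]
    (g : R →+* D) (χ : Multiplicative M →* D) :
    (bcEquiv z G (Over.mk (tg g))).symm (pt g χ ≫ incl i c) = cpt c g χ ≫ i := by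
  rw [incl, ← Category.assoc]
  exact (Over.mapPullbackAdj z).homEquiv_naturality_right_symm (pt g χ ≫ c.inv.hom.hom) i

theorem cpt_surjective (c : Grp.mk (Red.bc z H) ≅ Grp.mk (Red.DS (Bs R) M)) {D : Type u} [CommRing D]
    (g : R →+* D) (h : Over.mk (tg g ≫ z) ⟶ H) : ∃ χ, cpt c g χ = h := by
  obtain ⟨χ, hχ⟩ := pt_surjective g (bcEquiv z H (Over.mk (tg g)) h ≫ c.hom.hom.hom)
  refine ⟨χ, ?_⟩
  have he : c.hom.hom.hom ≫ c.inv.hom.hom = 𝟙 _ := congrArg (fun f => f.hom.hom) c.hom_inv_id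
  rw [cpt, hχ, Category.assoc, he, Category.comp_id, Equiv.symm_apply_apply]

/-- containment of points gives containment of characters -/
theorem exists_char_of_leOn (i : H ⟶ G) (i' : H' ⟶ G) (c : Grp.mk (Red.bc z H) ≅ Grp.mk (Red.DS (Bs R) M))
    (c' : Grp.mk (Red.bc z H') ≅ Grp.mk (Red.DS (Bs R) M')) {T : Scheme.{u}} {v : T ⟶ S} (h : LEOn i i' v)
    {D : Type u} [CommRing D] (g : R →+* D) (p : Spec (CommRingCat.of D) ⟶ T) (hp : p ≫ v = tg g ≫ z)
    (χ : Multiplicative M →* D) : ∃ χ', pt g χ' ≫ incl i' c' = pt g χ ≫ incl i c := by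
  have h1 : LEPt i i' (tg g ≫ z) := hp ▸ h.pt p
  obtain ⟨h', hh'⟩ := h1 (cpt c g χ)
  obtain ⟨χ', rfl⟩ := cpt_surjective c' g h'
  refine ⟨χ', (bcEquiv z G (Over.mk (tg g))).symm.injective ?_⟩
  rw [pt_incl, pt_incl]
  exact hh'

/-- containment of characters gives containment of points -/
theorem lePt_of_char (i : H ⟶ G) (i' : H' ⟶ G) (c : Grp.mk (Red.bc z H) ≅ Grp.mk (Red.DS (Bs R) M))
    (c' : Grp.mk (Red.bc z H') ≅ Grp.mk (Red.DS (Bs R) M')) {D : Type u} [CommRing D] (g : R →+* D)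
    (h : ∀ χ, ∃ χ', pt g χ' ≫ incl i' c' = pt g χ ≫ incl i c) : LEPt i i' (tg g ≫ z) := by
  intro a
  obtain ⟨χ, rfl⟩ := cpt_surjective c g a
  obtain ⟨χ', hχ'⟩ := h χ
  refine ⟨cpt c' g χ', ?_⟩
  rw [← pt_incl, ← pt_incl, hχ']

/-- centrality gives centrality in the chart -/
theorem centMod_of_centralAt (i : H ⟶ G) (c : Grp.mk (Red.bc z H) ≅ Grp.mk (Red.DS (Bs R) M)) (J : Ideal R)
    {T : Scheme.{u}} {v : T ⟶ S} (h : H21Fix.CentralAt i v)
    (hJ : ∀ (D : Type u) [CommRing D] (g : R →+* D), J.map g = ⊥ → ∃ p : Spec (CommRingCat.of D) ⟶ T, p ≫ v = tg g ≫ z) :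
    CentMod (incl i c) J := by
  intro D _ g hg χ x
  obtain ⟨p, hp⟩ := hJ D g hg
  refine (bcEquiv z G (Over.mk (tg g))).symm.injective ?_
  rw [bcEquiv_symm_mul, bcEquiv_symm_mul, pt_incl]
  exact h ((Over.map z).obj (Over.mk (tg g))) p hp _ _

omit [GrpObj H] [GrpObj H'] [GrpObj G] in
/-- from the universal point of a finite quotient to all its points -/
theorem exists_char_of_univ {G₁ : Over (Bs R)} (w : Red.DS (Bs R) M ⟶ G₁) (w' : Red.DS (Bs R) M' ⟶ G₁) {N : Type}
    [CommGroup N] (p : Multiplicative M →* N)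
    (h : ∃ θ : Multiplicative M' →* MonoidAlgebra R N,
      pt (MonoidAlgebra.singleOneRingHom : R →+* MonoidAlgebra R N) θ ≫ w' =
        pt (MonoidAlgebra.singleOneRingHom : R →+* MonoidAlgebra R N) ((MonoidAlgebra.of R N).comp p) ≫ w)
    {D : Type u} [CommRing D] (g : R →+* D) (χ : N →* D) : ∃ χ', pt g χ' ≫ w' = pt g (χ.comp p) ≫ w := by
  obtain ⟨θ, hθ⟩ := h
  let ev := H21Fix.ev g χ
  have hev : ev.comp (MonoidAlgebra.singleOneRingHom : R →+* MonoidAlgebra R N) = g :=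
    RingHom.ext fun v => by simp [ev]
  have hev' : ev.toMonoidHom.comp ((MonoidAlgebra.of R N).comp p) = χ.comp p :=
    MonoidHom.ext fun m => by simp [ev]
  refine ⟨ev.toMonoidHom.comp θ, Over.OverMorphism.ext ?_⟩
  rw [← hev', rmap_pt_comp w' _ g ev hev, rmap_pt_comp w _ g ev hev, hθ]

end Groth.Agent.H21SubEq
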